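import Groth.Agent.RedSub.H648.BorBc
import Groth.Agent.Sga3C.GrpIrr

/-!
# Subgroups of type (R), Borel and parabolic sub-group-schemes: base change and isomorphisms

* `hasConnectedFibres_bc`, `isTypeR_bc`: arbitrary base change;
* `isTypeR_of_arrow`, `isBorelSub_of_arrow`, `isParabolicSub_of_arrow`: invariance under
  isomorphisms of the subgroup and of the ambient group.
-/

set_option autoImplicit false

universe u

open CategoryTheory MonoidalCategory CartesianMonoidalCategory MonObj GrpObj AlgebraicGeometry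

namespace Groth.Agent.RedSub.H648.TypeR

open Groth.Agent.Sga3B Groth.Agent.Sga3B.RedIso Groth.Agent.Sga3B.BcNat BorBc

variable {S S' : Scheme.{u}}

/-- Connectedness of the fibres of a group scheme locally of finite type is stable under base
change. -/
theorem hasConnectedFibres_bc (f : S' ⟶ S) {B : Over S} [GrpObj B] [LocallyOfFiniteType B.hom]
    (h : RedSub.HasConnectedFibres B) : RedSub.HasConnectedFibres (Red.bc f B) := by
  have h1 : GeometricallyIrreducible B.hom :=
    have : GrpObj (Over.mk B.hom) := ‹GrpObj B›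
    Sga3C.GrpIrr.geometricallyIrreducible_of_connected_fibres B.hom h
  have h2 : GeometricallyIrreducible (Red.bc f B).hom :=
    inferInstanceAs (GeometricallyIrreducible (Limits.pullback.snd B.hom f))
  intro s'
  have h3 : IrreducibleSpace ↥((Red.bc f B).hom.fiber s') := inferInstance
  have h4 : (Red.bc f B).hom.base ⁻¹' {s'} = Set.range ((Red.bc f B).hom.fiberι s') :=
    ((Red.bc f B).hom.range_fiberι s').symm
  rw [h4]
  exact isConnected_range ((Red.bc f B).hom.fiberι s').continuous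

/-- **Subgroups of type (R) are stable under arbitrary base change.** -/
theorem isTypeR_bc (f : S' ⟶ S) {G B : Over S} [GrpObj G] [GrpObj B] {i : B ⟶ G}
    (hG : Red.IsReductive G) (h : RedSub.IsTypeR i) : RedSub.IsTypeR ((Over.pullback f).map i) := by
  obtain ⟨h1, h2, h3, h4, h5⟩ := h
  refine ⟨isSubgrp_bc f h1, ?_, ?_, hasConnectedFibres_bc f h4, hasMaxTori_bc f hG h5⟩
  · change Smooth (Limits.pullback.snd B.hom _)
    infer_instance
  · change QuasiCompact (Limits.pullback.snd B.hom _)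
    infer_instance

section Arrow

variable {B G B₁ G₁ : Over S} [GrpObj B] [GrpObj G] [GrpObj B₁] [GrpObj G₁]
  {i : B ⟶ G} {i₁ : B₁ ⟶ G₁} (φ : Grp.mk B ≅ Grp.mk B₁) (ψ : Grp.mk G ≅ Grp.mk G₁)
  (hc : i ≫ (und ψ).hom = (und φ).hom ≫ i₁)

include hc

lemma eq_of_arrow : i₁ = (und φ).inv ≫ i ≫ (und ψ).hom := by
  rw [hc, Iso.inv_hom_id_assoc]

theorem isSubgrp_of_arrow (h : RedSub.IsSubgrp i) : RedSub.IsSubgrp i₁ := by
  obtain ⟨h1, h2⟩ := h
  rw [eq_of_arrow φ ψ hc]
  refine ⟨inferInstance, ?_⟩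
  rw [Over.comp_left, Over.comp_left]
  infer_instance

omit hc in
include φ in
theorem hasConnectedFibres_of_iso (h : RedSub.HasConnectedFibres B) :
    RedSub.HasConnectedFibres B₁ := by
  intro s
  have h1 : B₁.hom.base ⁻¹' {s} = (und φ).hom.left '' (B.hom.base ⁻¹' {s}) := by
    have hw : ∀ x : B.left, B₁.hom ((und φ).hom.left x) = B.hom x := fun x => by
      rw [← Scheme.Hom.comp_apply, Over.w]
    ext y
    constructor
    · intro hy
      have hy' : (und φ).hom.left ((und φ).inv.left y) = y := by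
        rw [← Scheme.Hom.comp_apply, ← Over.comp_left, Iso.inv_hom_id]
        rfl
      refine ⟨(und φ).inv.left y, ?_, hy'⟩
      change B.hom _ = s
      rw [← hw, hy']
      exact hy
    · rintro ⟨x, hx, rfl⟩
      exact (hw x).trans hx
  rw [h1]
  exact (h s).image _ (und φ).hom.left.continuous.continuousOn

theorem hasMaxTori_of_arrow (h : HasMaxTori i) : HasMaxTori i₁ := by
  intro s
  obtain ⟨T, _, t, ht, hT⟩ := h s
  refine ⟨T, inferInstance, t ≫ (und (BcIso.bcMapIso (Red.geomPt s) φ)).hom, inferInstance, ?_⟩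
  refine AlgBc.isMaximalTorus_of_arrow (Iso.refl _) (BcIso.bcMapIso (Red.geomPt s) ψ) ?_ hT
  rw [Category.assoc, AlgBc.bc_arrow (Red.geomPt s) φ ψ hc, Category.assoc]
  exact (Category.id_comp _).symm

theorem hasBorels_of_arrow (h : HasBorels i) : HasBorels i₁ := by
  intro s
  obtain ⟨T, _, t, hT⟩ := h s
  refine ⟨T, inferInstance, t ≫ (und (BcIso.bcMapIso (Red.geomPt s) φ)).hom, ?_⟩
  refine ParBc.isBorelOver_of_arrow (Iso.refl _) (BcIso.bcMapIso (Red.geomPt s) ψ) ?_ hT
  rw [Category.assoc, AlgBc.bc_arrow (Red.geomPt s) φ ψ hc, Category.assoc]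
  exact (Category.id_comp _).symm

/-- Invariance of "type (R)" under isomorphism. -/
theorem isTypeR_of_arrow (h : RedSub.IsTypeR i) : RedSub.IsTypeR i₁ := by
  obtain ⟨h1, h2, h3, h4, h5⟩ := h
  exact ⟨isSubgrp_of_arrow φ ψ hc h1, TorusAlgClosed.prop_of_grp_iso (P := @Smooth) φ.symm h2,
    TorusAlgClosed.prop_of_grp_iso (P := @QuasiCompact) φ.symm h3, hasConnectedFibres_of_iso φ h4,
    hasMaxTori_of_arrow φ ψ hc h5⟩

/-- Invariance of "Borel subgroup" under isomorphism. -/
theorem isBorelSub_of_arrow (h : RedSub.IsBorelSub i) : RedSub.IsBorelSub i₁ :=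
  ⟨isTypeR_of_arrow φ ψ hc h.1, fun s =>
    ParBc.isBorelOver_of_arrow _ _ (AlgBc.bc_arrow (Red.geomPt s) φ ψ hc) (h.2 s)⟩

/-- Invariance of "parabolic subgroup" under isomorphism. -/
theorem isParabolicSub_of_arrow (h : RedSub.IsParabolicSub i) : RedSub.IsParabolicSub i₁ :=
  ⟨isSubgrp_of_arrow φ ψ hc h.1, TorusAlgClosed.prop_of_grp_iso (P := @Smooth) φ.symm h.2.1,
    hasBorels_of_arrow φ ψ hc h.2.2⟩

end Arrow

section Closed

variable {B G : Over S} [GrpObj B] [GrpObj G] {i : B ⟶ G}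

/-- A closed Borel sub-group-scheme is a Borel subgroup. -/
theorem isBorel_of_isBorelSub (h : RedSub.IsBorelSub i) (hc : IsClosedImmersion i.left) :
    Red.IsBorel i :=
  ⟨h.1.1.1, hc, h.1.2.1, h.2⟩

/-- A Borel subgroup of a reductive group is a Borel sub-group-scheme. -/
theorem isBorelSub_of_isBorel (hG : Red.IsReductive G) (h : Red.IsBorel i) :
    RedSub.IsBorelSub i := by
  obtain ⟨h1, h2, h3, h4⟩ := h
  have hGa := hG.1
  refine ⟨⟨⟨h1, inferInstance⟩, h3, ?_, fun s => IsoFam.isConnected_fibre _ s (h4 s).2.2.2.1, ?_⟩,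
    h4⟩
  · rw [← Over.w i]
    infer_instance
  · intro s
    have hb := h4 s
    have hGs : IsAffine (Red.geomFibre s G).left := (hG.2.2 s).1
    have h5 := hb.1
    have h6 := hb.2.1
    have h7 := hb.2.2.1
    have h8 : IsAffine (Red.geomFibre s B).left :=
      isAffine_of_isAffineHom ((Over.pullback (Red.geomPt s)).map i).left
    obtain ⟨T, _, t, ht, -⟩ := RG.BrHc.exists_isMaximalTorus (Red.geomFibre s B)
    obtain ⟨h9, -⟩ := Parab.PbFinal.dynK2B _ _ _ _ (hG.2.2 s) hb T t ht
    exact ⟨T, inferInstance, t, ht.1, h9⟩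

end Closed

end Groth.Agent.RedSub.H648.TypeR
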