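import Groth.Prelude.Def_RedSub
import Groth.Agent.Sga3B.MaxTorBc636
import Groth.Agent.Sga3B.RedBcAny636
import Groth.Agent.Sga3B.AlgBc2
import Groth.Agent.Sga3B.Parab.PbFinal910
import Groth.Agent.Sga3B.Parab.DynBorel128
import Groth.Agent.Sga3B.Parab.DynBc998

/-!
# Arbitrary base change of Borel and parabolic subgroups of reductive groups

* `isBorelOver_ext`, `isParabolicOver_ext`: extension of algebraically closed fields;
* `isBorel_bc`, `isParabolic_bc`, `isBorelSub_bc`, `isParabolicSub_bc`: arbitrary base change.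
-/

set_option autoImplicit false

universe u

open CategoryTheory MonoidalCategory CartesianMonoidalCategory MonObj GrpObj AlgebraicGeometry

namespace Groth.Agent.RedSub.H648.BorBc

open Groth.Agent.Sga3B Groth.Agent.Sga3B.RedIso Groth.Agent.Sga3B.BcNat
open Groth.Agent.Sga3B.Parab

section Field

variable {K L : Type u} [Field K] [IsAlgClosed K] [Field L] [IsAlgClosed L]
  (θ : Spec (CommRingCat.of L) ⟶ Spec (CommRingCat.of K))
  {G B : Over (Spec (CommRingCat.of K))} [GrpObj G] [GrpObj B] {i : B ⟶ G}

omit [IsAlgClosed L] in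
/-- Reductive groups under extension of algebraically closed fields. -/
theorem isReductiveOver_ext [IsAlgClosed L] (hG : Red.IsReductiveOver K G) :
    Red.IsReductiveOver L (Red.bc θ G) :=
  RedBcAny636.isReductiveOver_bc (AlgBc.isReductive_iff.2 hG) θ

/-- **Borel subgroups of reductive groups under extension of algebraically closed fields.** -/
theorem isBorelOver_ext (hG : Red.IsReductiveOver K G) (hB : Red.IsBorelOver K i) :
    Red.IsBorelOver L ((Over.pullback θ).map i) := by
  have hGaff : IsAffine G.left := hG.1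
  have hi1 : IsMonHom i := hB.1
  have hi2 : IsClosedImmersion i.left := hB.2.1
  have hBs : Smooth B.hom := hB.2.2.1
  have hBaff : IsAffine B.left := isAffine_of_isAffineHom i.left
  obtain ⟨T, _, t, ht, -⟩ := RG.BrHc.exists_isMaximalTorus B
  obtain ⟨-, mu, hmu, hP, hZ⟩ := PbFinal.dynK2B K G B i hG hB T t ht
  have ht1 : IsMonHom t := ht.1
  have hTt := ht.2.2.1
  exact DynBorel128.isBorelOver_of_isDynP PbFinal.dynK1 (isReductiveOver_ext θ hG) _ (hZ.bc θ)
    (TorusBc.isTorus_bc θ hTt) (hP.bc θ)

/-- **Parabolic subgroups of reductive groups under extension of algebraically closed fields.** -/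
theorem isParabolicOver_ext (hG : Red.IsReductiveOver K G) (hB : Red.IsParabolicOver K i) :
    Red.IsParabolicOver L ((Over.pullback θ).map i) := by
  obtain ⟨h1, h2, h3, B', gB', b, hb⟩ := hB
  refine ⟨inferInstance, MorphismProperty.overPullbackMap (P := @IsClosedImmersion) _ i h2, ?_,
    Red.bc θ B', inferInstance, (Over.pullback θ).map b, ?_⟩
  · change Smooth (Limits.pullback.snd B.hom _)
    infer_instance
  · rw [← Functor.map_comp]
    exact isBorelOver_ext θ hG hb

end Field

lemma und_refl {S : Scheme.{u}} (G : Over S) [GrpObj G] :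
    (und (Iso.refl (Grp.mk G))).hom = 𝟙 G := rfl

lemma fib_arrow_comp {S S' T T' : Scheme.{u}} {θ : T' ⟶ T} {g : T ⟶ S} {g' : T' ⟶ S'} {f : S' ⟶ S}
    (h : θ ≫ g = g' ≫ f) {G H : Over S} [GrpObj G] [GrpObj H] (i : G ⟶ H) {C : Over T} [GrpObj C]
    (b : C ⟶ (Over.pullback g).obj G) :
    (Over.pullback θ).map (b ≫ (Over.pullback g).map i) ≫ (und (fibIso h H).symm).hom =
      (und (Iso.refl (Grp.mk (Red.bc θ C)))).hom ≫
        ((Over.pullback θ).map b ≫ (und (fibIso h G).symm).hom) ≫
        (Over.pullback g').map ((Over.pullback f).map i) := by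
  rw [und_refl, Category.id_comp, Functor.map_comp, Category.assoc, AlgBc.fib_arrow,
    Category.assoc]

section Fib

variable {S S' : Scheme.{u}} {K L : Type u} [Field K] [IsAlgClosed K] [Field L] [IsAlgClosed L]
  {θ : Spec (CommRingCat.of L) ⟶ Spec (CommRingCat.of K)} {g : Spec (CommRingCat.of K) ⟶ S}
  {g' : Spec (CommRingCat.of L) ⟶ S'} {f : S' ⟶ S} (h : θ ≫ g = g' ≫ f)
  {G B : Over S} [GrpObj G] [GrpObj B] {i : B ⟶ G}

include h

theorem isBorelOver_fib (hG : Red.IsReductiveOver K (Red.bc g G))
    (hB : Red.IsBorelOver K ((Over.pullback g).map i)) :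
    Red.IsBorelOver L ((Over.pullback g').map ((Over.pullback f).map i)) :=
  ParBc.isBorelOver_of_arrow (fibIso h B).symm (fibIso h G).symm (AlgBc.fib_arrow h i)
    (isBorelOver_ext θ hG hB)

theorem isParabolicOver_fib (hG : Red.IsReductiveOver K (Red.bc g G))
    (hB : Red.IsParabolicOver K ((Over.pullback g).map i)) :
    Red.IsParabolicOver L ((Over.pullback g').map ((Over.pullback f).map i)) :=
  ParBc.isParabolicOver_of_arrow (fibIso h B).symm (fibIso h G).symm (AlgBc.fib_arrow h i)
    (isParabolicOver_ext θ hG hB)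

theorem isMaximalTorus_fib_comp (hG : Red.IsReductiveOver K (Red.bc g G))
    {T : Over (Spec (CommRingCat.of K))} [GrpObj T] (t : T ⟶ Red.bc g B)
    (ht : Red.IsMaximalTorus (t ≫ (Over.pullback g).map i)) :
    Red.IsMaximalTorus (((Over.pullback θ).map t ≫ (und (fibIso h B).symm).hom) ≫
      (Over.pullback g').map ((Over.pullback f).map i)) :=
  AlgBc.isMaximalTorus_of_arrow (Iso.refl _) (fibIso h G).symm (fib_arrow_comp h i t)
    (MaxTorBc636.isMaximalTorus_bc θ (AlgBc.isReductive_iff.2 hG) ht)

theorem isBorelOver_fib_comp (hG : Red.IsReductiveOver K (Red.bc g G))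
    {T : Over (Spec (CommRingCat.of K))} [GrpObj T] (t : T ⟶ Red.bc g B)
    (ht : Red.IsBorelOver K (t ≫ (Over.pullback g).map i)) :
    Red.IsBorelOver L (((Over.pullback θ).map t ≫ (und (fibIso h B).symm).hom) ≫
      (Over.pullback g').map ((Over.pullback f).map i)) :=
  ParBc.isBorelOver_of_arrow (Iso.refl _) (fibIso h G).symm (fib_arrow_comp h i t)
    (isBorelOver_ext θ hG ht)

end Fib

variable {S S' : Scheme.{u}} (f : S' ⟶ S) {G B : Over S} [GrpObj G] [GrpObj B] {i : B ⟶ G}

/-- the fibres of the base change of a subgroup are Borel subgroups if those of the subgroup are -/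
theorem isBorelOver_geomFibre_bc (hG : Red.IsReductive G) (s' : S')
    (h : Red.IsBorelOver (AlgebraicClosure (S.residueField (f s')))
      ((Over.pullback (Red.geomPt (f s'))).map i)) :
    Red.IsBorelOver (AlgebraicClosure (S'.residueField s'))
      ((Over.pullback (Red.geomPt s')).map ((Over.pullback f).map i)) := by
  obtain ⟨θ, hθ⟩ := MaxTorBc636.exists_geomPt f s'
  exact isBorelOver_fib hθ (hG.2.2 (f s')) h

/-- the fibres of the base change of a subgroup are parabolic if those of the subgroup are -/
theorem isParabolicOver_geomFibre_bc (hG : Red.IsReductive G) (s' : S')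
    (h : Red.IsParabolicOver (AlgebraicClosure (S.residueField (f s')))
      ((Over.pullback (Red.geomPt (f s'))).map i)) :
    Red.IsParabolicOver (AlgebraicClosure (S'.residueField s'))
      ((Over.pullback (Red.geomPt s')).map ((Over.pullback f).map i)) := by
  obtain ⟨θ, hθ⟩ := MaxTorBc636.exists_geomPt f s'
  exact isParabolicOver_fib hθ (hG.2.2 (f s')) h

/-- **Borel subgroups (closed form) are stable under arbitrary base change.** -/
theorem isBorel_bc (hG : Red.IsReductive G) (h : Red.IsBorel i) :
    Red.IsBorel ((Over.pullback f).map i) := by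
  obtain ⟨h1, h2, h3, h4⟩ := h
  refine ⟨inferInstance, MorphismProperty.overPullbackMap (P := @IsClosedImmersion) _ i h2, ?_,
    fun s' => isBorelOver_geomFibre_bc f hG s' (h4 (f s'))⟩
  change Smooth (Limits.pullback.snd B.hom _)
  infer_instance

/-- **Parabolic subgroups (closed form) are stable under arbitrary base change.** -/
theorem isParabolic_bc (hG : Red.IsReductive G) (h : Red.IsParabolic i) :
    Red.IsParabolic ((Over.pullback f).map i) := by
  obtain ⟨h1, h2, h3, h4⟩ := h
  refine ⟨inferInstance, MorphismProperty.overPullbackMap (P := @IsClosedImmersion) _ i h2, ?_,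
    fun s' => isParabolicOver_geomFibre_bc f hG s' (h4 (f s'))⟩
  change Smooth (Limits.pullback.snd B.hom _)
  infer_instance

/-- Sub-group-schemes are stable under base change. -/
theorem isSubgrp_bc (h : RedSub.IsSubgrp i) : RedSub.IsSubgrp ((Over.pullback f).map i) := by
  obtain ⟨h1, h2⟩ := h
  exact ⟨inferInstance, MorphismProperty.overPullbackMap (P := @IsImmersion) _ i h2⟩

/-- The condition on maximal tori in the definition of subgroups of type (R). -/
def HasMaxTori (i : B ⟶ G) : Prop :=
  ∀ s : S, ∃ (T : Over (Spec (CommRingCat.of (AlgebraicClosure (S.residueField s))))) (_ : GrpObj T)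
      (t : T ⟶ Red.geomFibre s B), IsMonHom t ∧
        Red.IsMaximalTorus (t ≫ (Over.pullback (Red.geomPt s)).map i)

/-- The condition on maximal tori is stable under base change. -/
theorem hasMaxTori_bc (hG : Red.IsReductive G) (h : HasMaxTori i) :
    HasMaxTori ((Over.pullback f).map i) := by
  intro s'
  obtain ⟨θ, hθ⟩ := MaxTorBc636.exists_geomPt f s'
  obtain ⟨T, _, t, ht1, ht2⟩ := h (f s')
  exact ⟨Red.bc θ T, inferInstance, (Over.pullback θ).map t ≫ (und (fibIso hθ B).symm).hom,
    inferInstance, isMaximalTorus_fib_comp hθ (hG.2.2 (f s')) t ht2⟩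

/-- The condition that the geometric fibres contain a Borel subgroup. -/
def HasBorels (i : B ⟶ G) : Prop :=
  ∀ s : S, ∃ (C : Over (Spec (CommRingCat.of (AlgebraicClosure (S.residueField s))))) (_ : GrpObj C)
      (b : C ⟶ Red.geomFibre s B),
      Red.IsBorelOver (AlgebraicClosure (S.residueField s)) (b ≫ (Over.pullback (Red.geomPt s)).map i)

/-- The condition that the geometric fibres contain a Borel subgroup is stable under base change. -/
theorem hasBorels_bc (hG : Red.IsReductive G) (h : HasBorels i) :
    HasBorels ((Over.pullback f).map i) := by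
  intro s'
  obtain ⟨θ, hθ⟩ := MaxTorBc636.exists_geomPt f s'
  obtain ⟨C, _, b, hb⟩ := h (f s')
  exact ⟨Red.bc θ C, inferInstance, (Over.pullback θ).map b ≫ (und (fibIso hθ B).symm).hom,
    isBorelOver_fib_comp hθ (hG.2.2 (f s')) b hb⟩

/-- **Parabolic subgroups (in the sense where closedness is not built in) are stable under
arbitrary base change.** -/
theorem isParabolicSub_bc (hG : Red.IsReductive G) (h : RedSub.IsParabolicSub i) :
    RedSub.IsParabolicSub ((Over.pullback f).map i) := by
  obtain ⟨h1, h2, h3⟩ := h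
  refine ⟨isSubgrp_bc f h1, ?_, hasBorels_bc f hG h3⟩
  change Smooth (Limits.pullback.snd B.hom _)
  infer_instance

/-- **Borel subgroups (in the sense where closedness is not built in) are stable under arbitrary
base change.** -/
theorem isBorelSub_bc (hG : Red.IsReductive G) (h : RedSub.IsBorelSub i) :
    RedSub.IsBorelSub ((Over.pullback f).map i) := by
  obtain ⟨⟨h1, h2, h3, h4, h5⟩, h6⟩ := h
  have h7 : ∀ s' : S', Red.IsBorelOver (AlgebraicClosure (S'.residueField s'))
      ((Over.pullback (Red.geomPt s')).map ((Over.pullback f).map i)) :=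
    fun s' => isBorelOver_geomFibre_bc f hG s' (h6 (f s'))
  refine ⟨⟨isSubgrp_bc f h1, ?_, ?_, ?_, hasMaxTori_bc f hG h5⟩, h7⟩
  · change Smooth (Limits.pullback.snd B.hom _)
    infer_instance
  · change QuasiCompact (Limits.pullback.snd B.hom _)
    infer_instance
  · intro s'
    exact IsoFam.isConnected_fibre _ s' (h7 s').2.2.2.1

end Groth.Agent.RedSub.H648.BorBc
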