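import Groth.Agent.RedSub.H648.SelfNorm
import Groth.Agent.Sga3B.Parab.PbKN751
import Groth.Agent.Sga3B.RG.PbNorm890
import Groth.Agent.Sga3B.Parab.PbAll910
import Groth.Agent.Sga3B.AlgBc2

/-!
# Borel sub-group-schemes of reductive groups are closed and self-normalising

`closed_and_selfNorm` is the statement S3962.
-/

set_option autoImplicit false

universe u

open CategoryTheory MonoidalCategory CartesianMonoidalCategory MonObj GrpObj AlgebraicGeometry

namespace Groth.Agent.RedSub.H648.ClosedBor

open Groth.Agent.Sga3B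

variable {S : Scheme.{u}}

lemma geomPt_closedPoint (s : S) : Red.geomPt s (IsLocalRing.closedPoint _) = s := by
  change (Spec.map _ ≫ S.fromSpecResidueField s) _ = s
  rw [Scheme.Hom.comp_apply]
  exact Scheme.fromSpecResidueField_apply _ _

/-- Over an algebraically closed field, closed smooth subgroups containing a Borel subgroup of a
reductive group are their own normalisers (scheme-theoretically). -/
theorem isNormalizerOf_over {K : Type u} [Field K] [IsAlgClosed K]
    {G P : Over (Spec (CommRingCat.of K))} [GrpObj G] [GrpObj P] (hG : Red.IsReductiveOver K G)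
    (p : P ⟶ G) (hp : Red.IsParabolicOver K p) : Red.IsNormalizerOf p p :=
  Parab.PbKN751.isNormalizerOf_of_KN (fun K _ _ => RG.PbNorm890.kn_of (Parab.PbAll.k2 K)) (AlgBc.isReductive_iff.2 hG) p
    (AlgBc.isParabolic_iff.2 hp)

/-- **Borel sub-group-schemes of a reductive group scheme are closed and are their own
normalisers.** -/
theorem closed_and_selfNorm {G B : Over S} [GrpObj G] [GrpObj B] (hG : Red.IsReductive G)
    (i : B ⟶ G) (hB : RedSub.IsBorelSub i) : IsClosedImmersion i.left ∧ Red.IsNormalizerOf i i := by
  have hGa := hG.1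
  have hGs := hG.2.1
  refine SelfNorm.closed_and_selfNorm i hB.1.1 hB.1.2.1 hB.1.2.2.1 hB.1.2.2.2.1 fun s =>
    ⟨_, inferInstance, Red.geomPt s, geomPt_closedPoint s, ?_⟩
  have h := hB.2 s
  exact isNormalizerOf_over (hG.2.2 s) _ ⟨h.1, h.2.1, h.2.2.1, _, inferInstance, 𝟙 _, by
    rw [Category.id_comp]; exact h⟩

end Groth.Agent.RedSub.H648.ClosedBor
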