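import Groth.Prelude.Def_RedSub
import Groth.Agent.S3040
import Groth.Agent.Sga3B.BcPts
import Groth.Agent.Sga3B.Parab.FibIsoSch

/-!
# Sub-group-schemes with self-normalising geometric fibres are closed and self-normalising

`G` an `S`-group locally of finite type and quasi-separated, `i : B ⟶ G` a sub-group-scheme (an
immersion, closedness is not assumed), smooth and quasi-compact with connected fibres.  If the
geometric fibres of `B` are their own (scheme-theoretic) normalisers then `i` is a closed immersion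
and `B` is its own normaliser (`closed_and_selfNorm`).

The point is that the normaliser is a closed subscheme of `G` (S3040) even when `B` is not closed.
-/

set_option autoImplicit false

universe u

open CategoryTheory MonoidalCategory CartesianMonoidalCategory MonObj GrpObj AlgebraicGeometry

namespace Groth.Agent.RedSub.H648.SelfNorm

open Groth.Agent.Sga3B

variable {S S' : Scheme.{u}}

/-- If `z` normalises `i` then so does its base change. -/
lemma norm_bc (f : S' ⟶ S) {G H Z : Over S} [GrpObj G] (i : H ⟶ G) (z : Z ⟶ G)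
    (hz : ∀ (X : Over S) (t : X ⟶ Z) (h : X ⟶ H),
      ∃ h' : X ⟶ H, (t ≫ z) * (h ≫ i) * (t ≫ z)⁻¹ = h' ≫ i)
    (X : Over S') (t : X ⟶ Red.bc f Z) (h : X ⟶ Red.bc f H) :
    ∃ h' : X ⟶ Red.bc f H, (t ≫ (Over.pullback f).map z) * (h ≫ (Over.pullback f).map i) *
      (t ≫ (Over.pullback f).map z)⁻¹ = h' ≫ (Over.pullback f).map i := by
  obtain ⟨h', hh'⟩ := hz _ ((BcPts.bcEquiv f X Z).symm t) ((BcPts.bcEquiv f X H).symm h)
  refine ⟨BcPts.bcEquiv f X H h', ?_⟩
  rw [← BcPts.bcEquiv_comp, ← hh']
  apply (BcPts.bcMulEquiv f X G).symm.injective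
  rw [map_mul, map_mul, map_inv]
  change (BcPts.bcEquiv f X G).symm _ * (BcPts.bcEquiv f X G).symm _ *
    ((BcPts.bcEquiv f X G).symm _)⁻¹ = (BcPts.bcEquiv f X G).symm (BcPts.bcEquiv f X G _)
  rw [BcPts.bcEquiv_symm_comp, BcPts.bcEquiv_symm_comp, Equiv.symm_apply_apply]

/-- If `z` normalises `i` then so does its base change (inverse form). -/
lemma norm_inv_bc (f : S' ⟶ S) {G H Z : Over S} [GrpObj G] (i : H ⟶ G) (z : Z ⟶ G)
    (hz : ∀ (X : Over S) (t : X ⟶ Z) (h : X ⟶ H),
      ∃ h' : X ⟶ H, (t ≫ z)⁻¹ * (h ≫ i) * (t ≫ z) = h' ≫ i)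
    (X : Over S') (t : X ⟶ Red.bc f Z) (h : X ⟶ Red.bc f H) :
    ∃ h' : X ⟶ Red.bc f H, (t ≫ (Over.pullback f).map z)⁻¹ * (h ≫ (Over.pullback f).map i) *
      (t ≫ (Over.pullback f).map z) = h' ≫ (Over.pullback f).map i := by
  obtain ⟨h', hh'⟩ := hz _ ((BcPts.bcEquiv f X Z).symm t) ((BcPts.bcEquiv f X H).symm h)
  refine ⟨BcPts.bcEquiv f X H h', ?_⟩
  rw [← BcPts.bcEquiv_comp, ← hh']
  apply (BcPts.bcMulEquiv f X G).symm.injective
  rw [map_mul, map_mul, map_inv]
  change ((BcPts.bcEquiv f X G).symm _)⁻¹ * (BcPts.bcEquiv f X G).symm _ *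
    (BcPts.bcEquiv f X G).symm _ = (BcPts.bcEquiv f X G).symm (BcPts.bcEquiv f X G _)
  rw [BcPts.bcEquiv_symm_comp, BcPts.bcEquiv_symm_comp, Equiv.symm_apply_apply]

/-- A morphism over `S` which becomes surjective over a field-valued point above every point of `S`
is surjective. -/
theorem surjective_of_fibres {X Y : Over S} (f : X ⟶ Y)
    (h : ∀ s : S, ∃ (K : Type u) (_ : Field K) (x : Spec (CommRingCat.of K) ⟶ S),
      x (IsLocalRing.closedPoint K) = s ∧ Surjective ((Over.pullback x).map f).left) :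
    Surjective f.left := by
  constructor
  intro y
  obtain ⟨K, _, x, hx, hs⟩ := h (Y.hom y)
  have h1 : y ∈ Set.range (Limits.pullback.fst Y.hom x) := by
    rw [Scheme.Pullback.range_fst]
    exact ⟨_, hx⟩
  obtain ⟨y', hy'⟩ := h1
  obtain ⟨z, hz⟩ := hs.surj y'
  refine ⟨Limits.pullback.fst X.hom x z, ?_⟩
  have h2 : ((Over.pullback x).map f).left ≫ Limits.pullback.fst Y.hom x =
      Limits.pullback.fst X.hom x ≫ f.left := Limits.pullback.lift_fst _ _ _
  rw [← Scheme.Hom.comp_apply, ← h2, Scheme.Hom.comp_apply, hz, hy']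

/-- **Sub-group-schemes with self-normalising fibres are closed and self-normalising.** -/
theorem closed_and_selfNorm {G B : Over S} [GrpObj G] [GrpObj B] [LocallyOfFiniteType G.hom]
    [QuasiSeparated G.hom] (i : B ⟶ G) (hi : RedSub.IsSubgrp i) (hs : Smooth B.hom)
    (hqc : QuasiCompact B.hom) (hconn : RedSub.HasConnectedFibres B)
    (hfib : ∀ s : S, ∃ (K : Type u) (_ : Field K) (x : Spec (CommRingCat.of K) ⟶ S),
      x (IsLocalRing.closedPoint K) = s ∧
        Red.IsNormalizerOf ((Over.pullback x).map i) ((Over.pullback x).map i)) :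
    IsClosedImmersion i.left ∧ Red.IsNormalizerOf i i := by
  obtain ⟨hi1, hi2⟩ := hi
  have hmono : Mono i := by
    have : Mono i.left := inferInstance
    exact (Over.forget S).mono_of_mono_map this
  have hqs : QuasiSeparated B.hom := by
    rw [← Over.w i]
    infer_instance
  obtain ⟨N, n, hn1, hn2, hN⟩ := (S3040.result S G B hconn i).1
  have hnmono : Mono n := by
    have : Mono n.left := inferInstance
    exact (Over.forget S).mono_of_mono_map this
  obtain ⟨f, hf⟩ := (hN B i).2 fun T' t h =>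
    ⟨⟨t * h * t⁻¹, by rw [MonObj.mul_comp, MonObj.mul_comp, GrpObj.inv_comp]⟩,
      ⟨t⁻¹ * h * t, by rw [MonObj.mul_comp, MonObj.mul_comp, GrpObj.inv_comp]⟩⟩
  have hNn := (hN N n).1 ⟨𝟙 N, Category.id_comp n⟩
  -- the fibres
  have hiso : ∀ s : S, ∃ (K : Type u) (_ : Field K) (x : Spec (CommRingCat.of K) ⟶ S),
      x (IsLocalRing.closedPoint K) = s ∧ IsIso ((Over.pullback x).map f) := by
    intro s
    obtain ⟨K, _, x, hx, -, hm, hK⟩ := hfib s
    refine ⟨K, inferInstance, x, hx, ?_⟩
    obtain ⟨g, hg⟩ := (hK _ ((Over.pullback x).map n)).2 fun X' t h =>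
      ⟨norm_bc x i n (fun X t h => (hNn X t h).1) X' t h,
        norm_inv_bc x i n (fun X t h => (hNn X t h).2) X' t h⟩
    have h1 : (Over.pullback x).map f ≫ (Over.pullback x).map n = (Over.pullback x).map i := by
      rw [← Functor.map_comp, hf]
    refine ⟨g, ?_, ?_⟩
    · rw [← cancel_mono ((Over.pullback x).map i), Category.assoc, hg, h1, Category.id_comp]
    · rw [← cancel_mono ((Over.pullback x).map n), Category.assoc, h1, hg, Category.id_comp]
  have hsurj : Surjective f.left := surjective_of_fibres f fun s => by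
    obtain ⟨K, _, x, hx, h⟩ := hiso s
    refine ⟨K, inferInstance, x, hx, ?_⟩
    have : IsIso ((Over.pullback x).map f).left :=
      inferInstanceAs (IsIso ((Over.forget _).map ((Over.pullback x).map f)))
    infer_instance
  have himm : IsImmersion f.left := by
    have h1 : IsImmersion (f.left ≫ n.left) := by
      rw [← Over.comp_left, hf]
      exact hi2
    exact IsImmersion.of_comp f.left n.left
  have hcl : IsClosedImmersion f.left := by
    apply IsClosedImmersion.of_isPreimmersion
    rw [Set.range_eq_univ.2 hsurj.surj]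
    exact isClosed_univ
  have hNlft : LocallyOfFiniteType N.hom := by
    rw [← Over.w n]
    infer_instance
  have hfiso : IsIso f := Parab.FibIsoSch.isIso_of_fibres f hiso
  have hfl : IsIso f.left := inferInstanceAs (IsIso ((Over.forget S).map f))
  refine ⟨?_, hi1, hmono, fun X g => ?_⟩
  · rw [← hf, Over.comp_left]
    infer_instance
  · rw [← hN X g]
    constructor
    · rintro ⟨z, rfl⟩
      exact ⟨z ≫ f, by rw [Category.assoc, hf]⟩
    · rintro ⟨z, rfl⟩
      exact ⟨z ≫ inv f, by rw [Category.assoc, ← hf, IsIso.inv_hom_id_assoc]⟩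

end Groth.Agent.RedSub.H648.SelfNorm
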